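import Groth.Agent.Lib.CohFound.CechElt
import Mathlib.Topology.Sheaves.SheafCondition.UniqueGluing
import Mathlib.Order.Zorn

/-! Čech cohomology vanishes if restrictions between unions of intersections are surjective. -/

universe u

open CategoryTheory TopologicalSpace Opposite Groth.Agent.CohFound

namespace Groth.Agent.CechFlasque16

variable {X : TopCat.{u}}

section

variable (P : (Opens X)ᵒᵖ ⥤ AddCommGrpCat.{u})

/-- restriction -/
noncomputable def res {V W : Opens X} (h : W ≤ V) : P.obj (op V) →+ P.obj (op W) :=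
  (P.map (homOfLE h).op).hom

@[simp] lemma res_res {U V W : Opens X} (h : V ≤ U) (h' : W ≤ V) (x : P.obj (op U)) :
    res P h' (res P h x) = res P (h'.trans h) x :=
  (CategoryTheory.Functor.map_comp_apply P (homOfLE h).op (homOfLE h').op x).symm

lemma res_congr {α : Sort*} (O : α → Opens X) (f : ∀ a, P.obj (op (O a))) {a b : α} (e : a = b)
    {W : Opens X} (ha : W ≤ O a) (hb : W ≤ O b) : res P ha (f a) = res P hb (f b) := by
  subst e; rfl

lemma res_rfl {V : Opens X} (x : P.obj (op V)) : res P (le_refl V) x = x := by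
  show P.map (𝟙 (op V)) x = x
  rw [CategoryTheory.Functor.map_id]; rfl

variable {ι : Type u} (U : ι → Opens X)

/-- cochains -/
abbrev Cochain (n : ℕ) := ∀ a : Fin (n + 1) → ι, P.obj (op (tupOpen U a))

/-- the differential -/
noncomputable def dd {n : ℕ} (g : Cochain P U n) : Cochain P U (n + 1) := fun a =>
  ∑ i : Fin (n + 2), (-1 : ℤ) ^ (i : ℕ) • res P (tupOpen_le U a i) (g (a ∘ i.succAbove))

lemma dd_dd {n : ℕ} (g : Cochain P U n) (a : Fin (n + 3) → ι) : dd P U (dd P U g) a = 0 := by
  obtain ⟨y, hy⟩ := exists_cval U P g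
  have h1 : ∀ b, cval U P b ((cechCx U P).d n (n + 1) y) = dd P U g b := fun b => by
    rw [cval_d]; simp only [hy]; rfl
  have h2 := cval_d U P ((cechCx U P).d n (n + 1) y) a
  rw [show (cechCx U P).d (n + 1) (n + 2) ((cechCx U P).d n (n + 1) y) = 0 from
    ConcreteCategory.congr_hom ((cechCx U P).d_comp_d n (n + 1) (n + 2)) y] at h2
  simp only [h1] at h2
  exact h2.symm.trans (map_zero (cvalHom U P a).hom)

lemma cons_comp_succAbove {n : ℕ} (m : ι) (a : Fin (n + 2) → ι) (i : Fin (n + 2)) :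
    (Fin.cons m a : Fin (n + 3) → ι) ∘ i.succ.succAbove = Fin.cons m (a ∘ i.succAbove) := by
  funext j
  cases j using Fin.cases with
  | zero => simp
  | succ j => simp

lemma dd_cons {n : ℕ} (g : Cochain P U (n + 1)) (m : ι) (a : Fin (n + 2) → ι)
    {W : Opens X} (h0 : W ≤ U m) (h : W ≤ tupOpen U a) :
    res P (le_iInf (fun k => Fin.cases (motive := fun k => W ≤ U ((Fin.cons m a : Fin (n + 3) → ι) k))
        (by simpa using h0) (fun k => by simpa using h.trans (iInf_le _ k)) k))
      (dd P U g (Fin.cons m a)) =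
      res P h (g a) - ∑ i : Fin (n + 2), (-1 : ℤ) ^ (i : ℕ) •
        res P (le_iInf (fun k => Fin.cases
            (motive := fun k => W ≤ U ((Fin.cons m (a ∘ i.succAbove) : Fin (n + 2) → ι) k))
            (by simpa using h0) (fun k => by simpa using h.trans (iInf_le _ _)) k))
          (g (Fin.cons m (a ∘ i.succAbove))) := by
  rw [dd, map_sum, Fin.sum_univ_succ, sub_eq_add_neg, ← Finset.sum_neg_distrib]
  congr 1
  · rw [Fin.val_zero, pow_zero, one_smul, res_res]
    exact res_congr P (fun b => tupOpen U b) g (by funext j; simp) _ _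
  · refine Finset.sum_congr rfl fun i _ => ?_
    rw [map_zsmul, res_res, Fin.val_succ, pow_succ, mul_neg_one, neg_smul]
    refine congrArg (fun z => -((-1 : ℤ) ^ (i : ℕ) • z)) ?_
    exact res_congr P (fun b => tupOpen U b) g (cons_comp_succAbove m a i) _ _

end

variable (F : TopCat.Sheaf AddCommGrpCat.{u} X) (G : Opens X → Prop)

/-- the hypothesis on a class of opens -/
structure Ext : Prop where
  inf : ∀ ⦃V W⦄, G V → G W → G (V ⊓ W)
  sup : ∀ {κ : Type u} (O : κ → Opens X), (∀ k, G (O k)) → G (iSup O)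
  surj : ∀ ⦃V W⦄ (h : W ≤ V), G V → G W → Function.Surjective (res F.obj h)

variable {F G}

/-- degree zero: glue and extend -/
lemma exists_glue (hG : Ext F G) {κ : Type u} (V : κ → Opens X) (hV : ∀ j, G (V j))
    {M : Opens X} (hM : G M) (hVM : ∀ j, V j ≤ M) (w : Cochain F.obj V 0)
    (hw : ∀ a, dd F.obj V w a = 0) :
    ∃ t : F.obj.obj (op M), ∀ (b : Fin 1 → κ) (h : tupOpen V b ≤ M), res F.obj h t = w b := by
  have hsingle : ∀ j, V j ≤ tupOpen V (fun _ : Fin 1 => j) := fun j => le_iInf fun _ => le_rfl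
  let sf : ∀ j, F.obj.obj (op (V j)) := fun j => res F.obj (hsingle j) (w fun _ => j)
  have hc : ∀ i j, res F.obj (inf_le_left : V i ⊓ V j ≤ V i) (sf i) =
      res F.obj (inf_le_right : V i ⊓ V j ≤ V j) (sf j) := by
    intro i j
    have hij : V i ⊓ V j ≤ tupOpen V ![i, j] := le_iInf fun k => by
      fin_cases k
      · exact inf_le_left
      · exact inf_le_right
    have h := congrArg (res F.obj hij) (hw ![i, j])
    rw [map_zero, dd, Fin.sum_univ_two, map_add, map_zsmul, map_zsmul] at h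
    simp only [Fin.val_zero, pow_zero, one_smul, Fin.val_one, pow_one, neg_smul, res_res,
      add_neg_eq_zero] at h
    simp only [sf, res_res]
    refine Eq.trans ?_ (h.symm.trans ?_)
    · exact res_congr F.obj (fun b => tupOpen V b) w (by funext k; fin_cases k; rfl) _ _
    · exact res_congr F.obj (fun b => tupOpen V b) w (by funext k; fin_cases k; rfl) _ _
  obtain ⟨s, hs, -⟩ := TopCat.Sheaf.existsUnique_gluing F V sf hc
  obtain ⟨t, rfl⟩ := hG.surj (iSup_le hVM) hM (hG.sup V hV) s
  refine ⟨t, fun b h => ?_⟩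
  have hb : b = fun _ => b 0 := by funext k; fin_cases k; rfl
  have hb0 : tupOpen V b ≤ V (b 0) := iInf_le _ 0
  have e : res F.obj (le_iSup V (b 0)) (res F.obj (iSup_le hVM) t) = sf (b 0) := hs (b 0)
  have e' := congrArg (res F.obj hb0) e
  simp only [sf, res_res] at e'
  refine e'.trans ?_
  exact (res_congr F.obj (fun b => tupOpen V b) w hb.symm _ (le_refl _)).trans (res_rfl F.obj _)

theorem exists_dd_eq (hG : Ext F G) : ∀ (n : ℕ) {ι : Type u} (U : ι → Opens X), (∀ i, G (U i)) →
    ∀ f : Cochain F.obj U (n + 1), (∀ a, dd F.obj U f a = 0) →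
      ∃ g : Cochain F.obj U n, ∀ a, dd F.obj U g a = f a := by
  intro n
  induction n using Nat.strong_induction_on with
  | _ n ihn =>
  intro ι U hU f hf
  classical
  let P := F.obj
  -- partial solutions
  let T := { p : Set ι × Cochain P U n // ∀ a, (∀ k, a k ∈ p.1) → dd P U p.2 a = f a }
  let R : T → T → Prop := fun p q =>
    p.1.1 ⊆ q.1.1 ∧ ∀ b, (∀ k, b k ∈ p.1.1) → p.1.2 b = q.1.2 b
  have hR : ∀ {p q r : T}, R p q → R q r → R p r := fun {p q r} h h' =>
    ⟨h.1.trans h'.1, fun b hb => (h.2 b hb).trans (h'.2 b fun k => h.1 (hb k))⟩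
  obtain ⟨p, hp⟩ : ∃ p, ∀ q, R p q → R q p := by
    refine exists_maximal_of_chains_bounded (fun c hc => ?_) hR
    let S : Set ι := ⋃ p ∈ c, p.1.1
    have hS : ∀ {k : ℕ} (b : Fin (k + 1) → ι), (∀ i, b i ∈ S) → ∃ p ∈ c, ∀ i, b i ∈ p.1.1 := by
      intro k b hb
      choose q hq hbq using fun i => Set.mem_iUnion₂.1 (hb i)
      suffices ∀ s : Finset (Fin (k + 1)), ∃ p ∈ c, ∀ i ∈ s, b i ∈ p.1.1 by
        obtain ⟨p, hp, h⟩ := this Finset.univ
        exact ⟨p, hp, fun i => h i (Finset.mem_univ i)⟩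
      intro s
      induction s using Finset.induction_on with
      | empty => exact ⟨q 0, hq 0, by simp⟩
      | @insert i s _ ih =>
        obtain ⟨p, hp, h⟩ := ih
        by_cases hpq : p = q i
        · exact ⟨p, hp, fun j hj => (Finset.mem_insert.1 hj).elim (fun e => e ▸ hpq ▸ hbq i) (h j)⟩
        · rcases hc hp (hq i) hpq with h' | h'
          · exact ⟨q i, hq i, fun j hj =>
              (Finset.mem_insert.1 hj).elim (fun e => e ▸ hbq i) (fun e => h'.1 (h j e))⟩
          · exact ⟨p, hp, fun j hj =>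
              (Finset.mem_insert.1 hj).elim (fun e => e ▸ h'.1 (hbq i)) (h j)⟩
    let g : Cochain P U n := fun b => if h : ∀ i, b i ∈ S then (hS b h).choose.1.2 b else 0
    have hg : ∀ p ∈ c, ∀ b, (∀ i, b i ∈ p.1.1) → p.1.2 b = g b := by
      intro p hp b hb
      have h : ∀ i, b i ∈ S := fun i => Set.mem_iUnion₂.2 ⟨p, hp, hb i⟩
      obtain ⟨hq, hbq⟩ := (hS b h).choose_spec
      refine Eq.trans ?_ (dif_pos h).symm
      by_cases e : p = (hS b h).choose
      · rw [← e]
      · rcases hc hp hq e with h' | h'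
        · exact h'.2 b hb
        · exact (h'.2 b hbq).symm
    refine ⟨⟨(S, g), fun a ha => ?_⟩, fun p hp =>
      ⟨fun i hi => Set.mem_iUnion₂.2 ⟨p, hp, hi⟩, hg p hp⟩⟩
    obtain ⟨p, hp, hpa⟩ := hS a ha
    refine Eq.trans ?_ (p.2 a hpa)
    exact Finset.sum_congr rfl fun i _ =>
      congrArg (fun z => (-1 : ℤ) ^ (i : ℕ) • res P (tupOpen_le U a i) z)
        (hg p hp (a ∘ i.succAbove) fun k => hpa _).symm
  obtain ⟨⟨S, g⟩, hg⟩ := p
  suffices hS : ∀ m, m ∈ S from ⟨g, fun a => hg a fun k => hS _⟩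
  intro m
  by_contra hm
  let g0 : Cochain P U n := fun b => if ∀ k, b k ∈ S then g b else 0
  let e : Cochain P U (n + 1) := fun a => f a - dd P U g0 a
  have he : ∀ a, dd P U e a = 0 := fun a => by
    have h1 : dd P U e a = dd P U f a - dd P U (dd P U g0) a := by
      simp only [dd, e, map_sub, smul_sub, Finset.sum_sub_distrib]
    rw [h1, hf, dd_dd, sub_zero]
  have he0 : ∀ a, (∀ k, a k ∈ S) → e a = 0 := fun a ha => by
    refine sub_eq_zero.2 ((hg a ha).symm.trans ?_)
    exact Finset.sum_congr rfl fun i _ =>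
      congrArg (fun z => (-1 : ℤ) ^ (i : ℕ) • res P (tupOpen_le U a i) z)
        (if_pos fun k => ha (i.succAbove k)).symm
  let U' : ι → Opens X := fun i => U m ⊓ U i
  have hU'm : ∀ {k : ℕ} (b : Fin (k + 1) → ι), tupOpen U' b ≤ U m := fun b =>
    (iInf_le _ 0).trans inf_le_left
  have hU' : ∀ {k : ℕ} (b : Fin (k + 1) → ι), tupOpen U' b ≤ tupOpen U b := fun b =>
    iInf_mono fun _ => inf_le_right
  have hc : ∀ {k : ℕ} (b : Fin (k + 1) → ι) {W : Opens X}, W ≤ U m → W ≤ tupOpen U b →
      W ≤ tupOpen U (Fin.cons m b : Fin (k + 2) → ι) := fun b W h0 h => le_iInf fun i => by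
    cases i using Fin.cases with
    | zero => simpa using h0
    | succ j => simpa using h.trans (iInf_le _ j)
  -- the correction term
  obtain ⟨q, hq, hqS⟩ : ∃ q : Cochain P U' n, (∀ a, dd P U' q a = 0) ∧ ∀ b, (∀ k, b k ∈ S) →
      q b = res P (hc b (hU'm b) (hU' b)) (e (Fin.cons m b)) := by
    let w : Cochain P (fun j : S => U' j.1) n := fun b =>
      res P (hc (Subtype.val ∘ b) (hU'm (Subtype.val ∘ b)) (hU' (Subtype.val ∘ b)))
        (e (Fin.cons m (Subtype.val ∘ b)))
    have hw : ∀ a, dd P (fun j : S => U' j.1) w a = 0 := by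
      intro a
      have h := dd_cons P U e m (Subtype.val ∘ a) (hU'm (Subtype.val ∘ a)) (hU' (Subtype.val ∘ a))
      rw [he, he0 (Subtype.val ∘ a) (fun k => (a k).2), map_zero, map_zero, zero_sub, eq_comm,
        neg_eq_zero] at h
      refine Eq.trans ?_ h
      refine Finset.sum_congr rfl fun i _ => ?_
      simp only [w, res_res]
      rfl
    obtain rfl | ⟨n, rfl⟩ : n = 0 ∨ ∃ k, n = k + 1 := by cases n <;> simp
    · obtain ⟨t, ht⟩ := exists_glue hG (fun j : S => U' j.1) (fun j => hG.inf (hU m) (hU j.1))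
        (hU m) (fun j => inf_le_left) w hw
      refine ⟨fun b => res P (hU'm b) t, fun a => ?_, fun b hb => ?_⟩
      · simp [dd, Fin.sum_univ_two, res_res]
      · exact ht (fun k => ⟨b k, hb k⟩) (hU'm b)
    · obtain ⟨v, hv⟩ := ihn n (Nat.lt_succ_self n) (fun j : S => U' j.1)
        (fun j => hG.inf (hU m) (hU j.1)) w hw
      let v' : Cochain P U' n := fun t =>
        if h : ∀ k, t k ∈ S then v (fun k => ⟨t k, h k⟩) else 0
      refine ⟨dd P U' v', fun a => dd_dd P U' v' a, fun b hb => ?_⟩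
      refine Eq.trans ?_ (hv fun k => ⟨b k, hb k⟩)
      refine Finset.sum_congr rfl fun i _ => ?_
      simp only [v', Function.comp_apply]
      rw [dif_pos fun k => hb _]
      rfl
  let g' : Cochain P U n := fun b =>
    if ∀ k, b k ∈ S then g b else
      if h : m ∈ Set.range b then
        have hb : tupOpen U b ≤ U m := by obtain ⟨k, hk⟩ := h; exact hk ▸ iInf_le _ k
        res P (hc b hb le_rfl) (e (Fin.cons m b)) -
          res P (le_iInf fun k => le_inf hb (iInf_le _ k) : tupOpen U b ≤ tupOpen U' b) (q b)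
      else 0
  have hg' : ∀ a, (∀ k, a k ∈ insert m S) → dd P U g' a = f a := by
    intro a ha
    by_cases haS : ∀ k, a k ∈ S
    · refine Eq.trans (Finset.sum_congr rfl fun i _ => ?_) (hg a haS)
      exact congrArg (fun z => (-1 : ℤ) ^ (i : ℕ) • res P (tupOpen_le U a i) z)
        (if_pos fun k => haS (i.succAbove k))
    obtain ⟨j, hj⟩ : ∃ j, a j = m := by
      by_contra h
      exact haS fun k => (ha k).resolve_left fun e => h ⟨k, e⟩
    have ham : tupOpen U a ≤ U m := hj ▸ iInf_le _ j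
    have haU' : tupOpen U a ≤ tupOpen U' a := le_iInf fun k => le_inf ham (iInf_le _ k)
    have hterm : ∀ i : Fin (n + 2), res P (tupOpen_le U a i) (g' (a ∘ i.succAbove)) =
        res P (tupOpen_le U a i) (g0 (a ∘ i.succAbove)) +
          (res P (hc (a ∘ i.succAbove) ham (tupOpen_le U a i)) (e (Fin.cons m (a ∘ i.succAbove))) -
            res P (haU'.trans (tupOpen_le U' a i)) (q (a ∘ i.succAbove))) := by
      intro i
      by_cases hb : ∀ k, (a ∘ i.succAbove) k ∈ S
      · simp only [g', g0]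
        rw [if_pos hb, if_pos hb, hqS _ hb, res_res, sub_self, add_zero]
      · have hmb : m ∈ Set.range (a ∘ i.succAbove) := by
          by_contra h
          exact hb fun k => (ha _).resolve_left fun e => h ⟨k, e⟩
        simp only [g', g0]
        rw [if_neg hb, if_neg hb, dif_pos hmb, map_zero, zero_add, map_sub, res_res, res_res]
    have h1 := dd_cons P U e m a ham le_rfl
    rw [he, map_zero, res_rfl, eq_comm, sub_eq_zero] at h1
    have h2 := congrArg (res P haU') (hq a)
    rw [map_zero, dd, map_sum] at h2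
    simp only [map_zsmul, res_res] at h2
    simp only [dd, hterm, smul_add, smul_sub, Finset.sum_add_distrib, Finset.sum_sub_distrib]
    rw [h2, sub_zero, ← h1]
    exact add_sub_cancel _ _
  have := hp ⟨(insert m S, g'), hg'⟩ ⟨Set.subset_insert m S, fun b hb => (if_pos hb).symm⟩
  exact hm (this.1 (Set.mem_insert m S))

/-- intersections of tuples -/
def Piece {ι : Type u} (U : ι → Opens X) (A : Opens X) : Prop :=
  ∃ (p : ℕ) (t : Fin (p + 1) → ι), A = tupOpen U t

/-- unions of intersections of tuples -/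
def UPiece {ι : Type u} (U : ι → Opens X) (W : Opens X) : Prop :=
  ∃ s : Set (Opens X), (∀ A ∈ s, Piece U A) ∧ W = sSup s

lemma Piece.inf {ι : Type u} {U : ι → Opens X} {A B : Opens X} (hA : Piece U A) (hB : Piece U B) :
    Piece U (A ⊓ B) := by
  obtain ⟨p, t, rfl⟩ := hA
  obtain ⟨q, s, rfl⟩ := hB
  refine ⟨p + 1 + q, (Fin.append t s : Fin ((p + 1) + (q + 1)) → ι), le_antisymm (le_iInf fun k => ?_) (le_inf (le_iInf fun k => ?_)
    (le_iInf fun k => ?_))⟩
  · induction k using Fin.addCases (m := p + 1) (n := q + 1) with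
    | left i => rw [Fin.append_left]; exact inf_le_left.trans (iInf_le _ i)
    | right i => rw [Fin.append_right]; exact inf_le_right.trans (iInf_le _ i)
  · exact (iInf_le _ (Fin.castAdd (q + 1) k)).trans_eq (by rw [Fin.append_left])
  · exact (iInf_le _ (Fin.natAdd (p + 1) k)).trans_eq (by rw [Fin.append_right])

theorem isZero_cechH (F : TopCat.Sheaf AddCommGrpCat.{u} X) {ι : Type u} (U : ι → Opens X)
    (h : ∀ (W : Opens X) (hW : W ≤ iSup U), UPiece U W → Function.Surjective (res F.obj hW)) (n : ℕ) :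
    Limits.IsZero (CohTop.cechH F.obj U (n + 1)) := by
  have hle : ∀ {W}, UPiece U W → W ≤ iSup U := fun {W} hW => by
    obtain ⟨s, hs, rfl⟩ := hW
    refine sSup_le fun A hA => ?_
    obtain ⟨p, t, rfl⟩ := hs A hA
    exact (iInf_le _ 0).trans (le_iSup U _)
  have hG : Ext F (UPiece U) := by
    refine ⟨fun V W hV hW => ?_, fun {κ} O hO => ?_, fun V W hVW hV hW => ?_⟩
    · obtain ⟨s, hs, rfl⟩ := hV
      obtain ⟨t, ht, rfl⟩ := hW
      refine ⟨Set.image2 (· ⊓ ·) s t, fun A hA => ?_, ?_⟩
      · obtain ⟨a, ha, b, hb, rfl⟩ := hA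
        exact (hs a ha).inf (ht b hb)
      · rw [sSup_inf_sSup, ← Set.image_uncurry_prod, sSup_image]
        rfl
    · choose s hs hsO using hO
      refine ⟨⋃ k, s k, fun A hA => ?_, ?_⟩
      · obtain ⟨k, hk⟩ := Set.mem_iUnion.1 hA
        exact hs k A hk
      · rw [sSup_iUnion]; exact iSup_congr hsO
    · intro x
      obtain ⟨y, hy⟩ := h W (hle hW) hW x
      exact ⟨res F.obj (hle hV) y, (res_res F.obj _ _ y).trans hy⟩
  refine isZero_cechH_of_exact U F.obj fun f hf => ?_
  exact exists_dd_eq hG n U (fun i => ⟨{U i}, fun A hA => ⟨0, fun _ => i, by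
    rw [Set.mem_singleton_iff.1 hA]; exact iInf_const.symm⟩, sSup_singleton.symm⟩) f hf

end Groth.Agent.CechFlasque16
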